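import Mathlib

/-!
# Annihilator of `x ⊗ 1 - 1 ⊗ x` in `L ⊗[K] L`: flat descent

helper19, for S15125.
-/

namespace Groth.Agent.Helper19.SepCompl

open scoped TensorProduct
open Polynomial

universe u

section Descent

variable (K : Type u) [CommRing K]
  (A L : Type u) [CommRing A] [CommRing L] [Algebra K A] [Algebra K L] [Algebra A L]
  [IsScalarTower K A L]

/-- multiplication `A ⊗ L → L`. -/
noncomputable def mulA : A ⊗[K] L →ₐ[A] L :=
  Algebra.TensorProduct.lift (Algebra.ofId A L) (AlgHom.id K L) (fun _ _ => Commute.all _ _)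

@[simp] lemma mulA_tmul (α : A) (b : L) : mulA K A L (α ⊗ₜ[K] b) = algebraMap A L α * b := by
  simp [mulA, Algebra.ofId_apply]

/-- the comparison map `L ⊗[A] (A ⊗[K] L) → L`. -/
noncomputable def nu : L ⊗[A] (A ⊗[K] L) →ₗ[A] L :=
  (LinearMap.mul' A L) ∘ₗ (LinearMap.lTensor L (mulA K A L).toLinearMap)

lemma nu_tmul (l : L) (s : A ⊗[K] L) : nu K A L (l ⊗ₜ[A] s) = l * mulA K A L s := by
  simp [nu]

lemma lmul_cancel (z : L ⊗[A] (A ⊗[K] L)) :
    Algebra.TensorProduct.lmul' K (S := L)
      (TensorProduct.AlgebraTensorModule.cancelBaseChange K A A L L z) = nu K A L z := by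
  induction z using TensorProduct.induction_on with
  | zero => simp
  | add z₁ z₂ h₁ h₂ => simp only [map_add, h₁, h₂]
  | tmul l s =>
    induction s using TensorProduct.induction_on with
    | zero => simp
    | add s₁ s₂ h₁ h₂ => simp only [TensorProduct.tmul_add, map_add, h₁, h₂]
    | tmul α b =>
      rw [TensorProduct.AlgebraTensorModule.cancelBaseChange_tmul, nu_tmul, mulA_tmul,
        Algebra.TensorProduct.lmul'_apply_tmul, Algebra.smul_def]
      ring

lemma mul_cancel (a : A) (z : L ⊗[A] (A ⊗[K] L)) :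
    TensorProduct.AlgebraTensorModule.cancelBaseChange K A A L L
      (TensorProduct.AlgebraTensorModule.lTensor A L
        (LinearMap.mulLeft A (a ⊗ₜ[K] (1 : L) - (1 : A) ⊗ₜ[K] (algebraMap A L a))) z) =
    (algebraMap A L a ⊗ₜ[K] (1 : L) - (1 : L) ⊗ₜ[K] algebraMap A L a) *
      TensorProduct.AlgebraTensorModule.cancelBaseChange K A A L L z := by
  induction z using TensorProduct.induction_on with
  | zero => simp
  | add z₁ z₂ h₁ h₂ => simp only [map_add, h₁, h₂, mul_add]
  | tmul l s =>
    induction s using TensorProduct.induction_on with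
    | zero => simp
    | add s₁ s₂ h₁ h₂ =>
      simp only [TensorProduct.tmul_add, map_add, mul_add] at h₁ h₂ ⊢
      rw [h₁, h₂]
    | tmul α b =>
      simp only [TensorProduct.AlgebraTensorModule.coe_lTensor, LinearMap.lTensor_tmul,
        LinearMap.mulLeft_apply, sub_mul, Algebra.TensorProduct.tmul_mul_tmul, one_mul,
        TensorProduct.tmul_sub, map_sub,
        TensorProduct.AlgebraTensorModule.cancelBaseChange_tmul, mul_smul]
      congr 1
      rw [Algebra.smul_def]

theorem descent [Module.Flat A L] (a : A)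
    (h : ∀ s : A ⊗[K] L,
      (a ⊗ₜ[K] (1 : L) - (1 : A) ⊗ₜ[K] (algebraMap A L a)) * s = 0 → mulA K A L s = 0)
    (t : L ⊗[K] L)
    (ht : (algebraMap A L a ⊗ₜ[K] (1 : L) - (1 : L) ⊗ₜ[K] algebraMap A L a) * t = 0) :
    Algebra.TensorProduct.lmul' K (S := L) t = 0 := by
  set e := TensorProduct.AlgebraTensorModule.cancelBaseChange K A A L L with he
  set μ : A ⊗[K] L →ₗ[A] A ⊗[K] L :=
    LinearMap.mulLeft A (a ⊗ₜ[K] (1 : L) - (1 : A) ⊗ₜ[K] (algebraMap A L a)) with hμ
  have h0 : TensorProduct.AlgebraTensorModule.lTensor A L μ (e.symm t) = 0 := by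
    apply e.injective
    rw [he, hμ, mul_cancel, ← he, e.apply_symm_apply, ht, map_zero]
  have h1 : e.symm t ∈ LinearMap.ker (TensorProduct.AlgebraTensorModule.lTensor A L μ) := h0
  rw [Module.Flat.ker_lTensor_eq] at h1
  obtain ⟨w, hw⟩ := h1
  have h2 : Algebra.TensorProduct.lmul' K (S := L) t = nu K A L (e.symm t) := by
    rw [← lmul_cancel, ← he, e.apply_symm_apply]
  rw [h2, ← hw]
  clear hw h2 h0
  induction w using TensorProduct.induction_on with
  | zero => simp
  | add w₁ w₂ h₁ h₂ => simp only [map_add, h₁, h₂, add_zero]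
  | tmul l s =>
    obtain ⟨s, hs⟩ := s
    have hs' : (a ⊗ₜ[K] (1 : L) - (1 : A) ⊗ₜ[K] (algebraMap A L a)) * s = 0 := by
      simpa [hμ] using hs
    simp only [TensorProduct.AlgebraTensorModule.coe_lTensor, LinearMap.lTensor_tmul,
      Submodule.subtype_apply, nu_tmul, h s hs', mul_zero]

end Descent

end Groth.Agent.Helper19.SepCompl
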