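import Mathlib
import Groth.Agent.Lib.Helper19.SepCompl.Descent

/-!
# Annihilator of `x ⊗ 1 - 1 ⊗ x` in `L ⊗[K] L` for `x` transcendental or inseparable

helper19, for S15125.
-/

namespace Groth.Agent.Helper19.SepCompl

open scoped TensorProduct
open Polynomial

universe u

variable (K L : Type u) [Field K] [Field L] [Algebra K L]

/-- Transcendental case. -/
theorem caseA (x : L) (hx : Transcendental K x) (t : L ⊗[K] L)
    (ht : (x ⊗ₜ[K] (1 : L) - (1 : L) ⊗ₜ[K] x) * t = 0) :
    Algebra.TensorProduct.lmul' K (S := L) t = 0 := by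
  letI : Algebra K[X] L := (aeval x).toRingHom.toAlgebra
  have halg : ∀ p : K[X], algebraMap K[X] L p = aeval x p := fun p => rfl
  haveI : IsScalarTower K K[X] L := IsScalarTower.of_algebraMap_eq (fun r => by
    rw [halg, Polynomial.algebraMap_apply, Algebra.algebraMap_self, RingHom.id_apply, aeval_C])
  haveI : Module.IsTorsionFree K[X] L := ⟨fun r hr l₁ l₂ h => by
    have hr0 : r ≠ 0 := hr.ne_zero
    have hr1 : aeval x r ≠ 0 := fun h0 => hr0 (transcendental_iff.mp hx r h0)
    simp only [Algebra.smul_def, halg] at h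
    exact mul_left_cancel₀ hr1 h⟩
  have hX : algebraMap K[X] L X = x := by rw [halg, aeval_X]
  have key := descent K K[X] L X ?_ t (by rw [hX]; exact ht)
  · exact key
  · intro s hs
    rw [hX] at hs
    -- transport to `L[X]`
    let φ : K[X] ⊗[K] L ≃ₐ[K] L[X] :=
      (Algebra.TensorProduct.comm K K[X] L).trans (polyEquivTensor K L).symm
    have hφ : φ ((X : K[X]) ⊗ₜ[K] (1 : L) - (1 : K[X]) ⊗ₜ[K] x) = X - C x := by
      simp only [φ, AlgEquiv.trans_apply, map_sub, Algebra.TensorProduct.comm_tmul,
        polyEquivTensor_symm_apply_tmul_eq_smul, Polynomial.map_X, Polynomial.map_one,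
        one_smul]
      congr 1
      rw [Polynomial.smul_eq_C_mul, mul_one]
    have h1 : (X - C x) * φ s = 0 := by rw [← hφ, ← map_mul, hs, map_zero]
    have h2 : φ s = 0 := by
      rcases mul_eq_zero.mp h1 with h | h
      · exact absurd h (X_sub_C_ne_zero x)
      · exact h
    have h3 : s = 0 := by
      have := φ.injective (a₁ := s) (a₂ := 0) (by rw [h2, map_zero])
      exact this
    rw [h3, map_zero]

/-- The ring hom `L[X] → AdjoinRoot f ⊗[K] L`. -/
noncomputable def piB (f : K[X]) : L[X] →+* AdjoinRoot f ⊗[K] L :=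
  Polynomial.eval₂RingHom
    (Algebra.TensorProduct.includeRight (R := K) (A := AdjoinRoot f) (B := L)).toRingHom
    (AdjoinRoot.root f ⊗ₜ[K] (1 : L))

lemma piB_C (f : K[X]) (l : L) : piB K L f (C l) = (1 : AdjoinRoot f) ⊗ₜ[K] l := by
  simp [piB]

lemma piB_X (f : K[X]) : piB K L f X = AdjoinRoot.root f ⊗ₜ[K] (1 : L) := by
  simp [piB]

lemma piB_map (f p : K[X]) :
    piB K L f (p.map (algebraMap K L)) = AdjoinRoot.mk f p ⊗ₜ[K] (1 : L) := by
  induction p using Polynomial.induction_on' with
  | add p q hp hq => rw [Polynomial.map_add, map_add, hp, hq, map_add, TensorProduct.add_tmul]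
  | monomial n a =>
    rw [Polynomial.map_monomial, ← C_mul_X_pow_eq_monomial, map_mul, map_pow, piB_C, piB_X,
      ← C_mul_X_pow_eq_monomial, map_mul, map_pow, AdjoinRoot.mk_C, AdjoinRoot.mk_X,
      Algebra.TensorProduct.tmul_pow, one_pow, Algebra.TensorProduct.tmul_mul_tmul, one_mul,
      mul_one]
    rw [Algebra.algebraMap_eq_smul_one (A := L) a, ← TensorProduct.smul_tmul, Algebra.smul_def,
      AdjoinRoot.algebraMap_eq]

lemma piB_surjective (f : K[X]) : Function.Surjective (piB K L f) := by
  intro s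
  induction s using TensorProduct.induction_on with
  | zero => exact ⟨0, map_zero _⟩
  | add s₁ s₂ h₁ h₂ =>
    obtain ⟨g₁, rfl⟩ := h₁
    obtain ⟨g₂, rfl⟩ := h₂
    exact ⟨g₁ + g₂, map_add _ _ _⟩
  | tmul α l =>
    obtain ⟨p, rfl⟩ := AdjoinRoot.mk_surjective α
    refine ⟨C l * p.map (algebraMap K L), ?_⟩
    rw [map_mul, piB_C, piB_map, Algebra.TensorProduct.tmul_mul_tmul, one_mul, mul_one]

lemma mulA_piB (f : K[X]) (x : L)
    [Algebra (AdjoinRoot f) L] [IsScalarTower K (AdjoinRoot f) L]
    (hroot : algebraMap (AdjoinRoot f) L (AdjoinRoot.root f) = x) (g : L[X]) :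
    mulA K (AdjoinRoot f) L (piB K L f g) = g.eval x := by
  induction g using Polynomial.induction_on' with
  | add p q hp hq => rw [map_add, map_add, hp, hq, eval_add]
  | monomial n a =>
    rw [← C_mul_X_pow_eq_monomial, map_mul, map_pow, piB_C, piB_X, map_mul, map_pow,
      mulA_tmul, mulA_tmul, hroot, map_one, one_mul, mul_one, eval_mul, eval_C, eval_pow,
      eval_X]

lemma piB_ker (f : K[X]) (hf : f ≠ 0) (hfpos : 0 < f.natDegree) (g : L[X]) (hg : piB K L f g = 0) :
    f.map (algebraMap K L) ∣ g := by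
  classical
  have hf0 : piB K L f (f.map (algebraMap K L)) = 0 := by
    rw [piB_map, AdjoinRoot.mk_self, TensorProduct.zero_tmul]
  set fL := f.map (algebraMap K L) with hfL
  have hfL0 : fL ≠ 0 := (Polynomial.map_ne_zero_iff (algebraMap K L).injective).mpr hf
  -- divide with remainder
  have hdiv : g = fL * (g / fL) + g % fL := (EuclideanDomain.div_add_mod g fL).symm
  have hr : piB K L f (g % fL) = 0 := by
    have := congrArg (piB K L f) hdiv
    rw [map_add, map_mul, hf0, zero_mul, zero_add, hg] at this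
    exact this.symm
  have hdeg : (g % fL).degree < fL.degree := EuclideanDomain.mod_lt g hfL0
  have hnd : fL.natDegree = f.natDegree := Polynomial.natDegree_map _
  suffices hr0 : g % fL = 0 by
    rw [hr0, add_zero] at hdiv
    exact ⟨_, hdiv⟩
  set r := g % fL with hrdef
  -- expand r in the power basis
  let pb := AdjoinRoot.powerBasis hf
  have hdim : pb.dim = f.natDegree := AdjoinRoot.powerBasis_dim hf
  have hrlt : ∀ n, f.natDegree ≤ n → r.coeff n = 0 := by
    intro n hn
    apply Polynomial.coeff_eq_zero_of_degree_lt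
    refine lt_of_lt_of_le hdeg ?_
    rw [Polynomial.degree_eq_natDegree hfL0, hnd]
    exact_mod_cast hn
  let c : Fin pb.dim →₀ L := Finsupp.equivFunOnFinite.symm (fun i => r.coeff i)
  have hsum : (c.sum fun i n => pb.basis i ⊗ₜ[K] n) = piB K L f r := by
    rw [Finsupp.sum_fintype _ _ (fun i => TensorProduct.tmul_zero _ _)]
    have hr_sum : r = ∑ i : Fin pb.dim, C (r.coeff i) * X ^ (i : ℕ) := by
      conv_lhs => rw [Polynomial.as_sum_range' r pb.dim (by
        rw [hdim]
        by_cases hr0 : r = 0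
        · rw [hr0, natDegree_zero]
          exact hfpos
        · have := Polynomial.natDegree_lt_natDegree hr0 hdeg
          rwa [hnd] at this)]
      rw [Finset.sum_range]
      simp only [C_mul_X_pow_eq_monomial]
    conv_rhs => rw [hr_sum]
    rw [map_sum]
    refine Finset.sum_congr rfl (fun i _ => ?_)
    rw [map_mul, map_pow, piB_C, piB_X, Algebra.TensorProduct.tmul_pow, one_pow,
      Algebra.TensorProduct.tmul_mul_tmul, one_mul, mul_one]
    simp only [c, pb, Finsupp.coe_equivFunOnFinite_symm, PowerBasis.coe_basis,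
      AdjoinRoot.powerBasis_gen]
  have hc : c = 0 := TensorProduct.sum_tmul_basis_left_eq_zero pb.basis c (by rw [hsum, hr])
  ext n
  rw [Polynomial.coeff_zero]
  by_cases hn : n < f.natDegree
  · have := DFunLike.congr_fun hc ⟨n, by rw [hdim]; exact hn⟩
    simpa [c] using this
  · exact hrlt n (not_lt.mp hn)

/-- Inseparable algebraic case. -/
theorem caseB (x : L) (hx : IsIntegral K x) (hns : ¬ (minpoly K x).Separable) (t : L ⊗[K] L)
    (ht : (x ⊗ₜ[K] (1 : L) - (1 : L) ⊗ₜ[K] x) * t = 0) :
    Algebra.TensorProduct.lmul' K (S := L) t = 0 := by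
  set f := minpoly K x with hf
  have hirr : Irreducible f := minpoly.irreducible hx
  haveI : Fact (Irreducible f) := ⟨hirr⟩
  have hf0 : f ≠ 0 := hirr.ne_zero
  have hfx : aeval x f = 0 := minpoly.aeval K x
  let ψ : AdjoinRoot f →ₐ[K] L := AdjoinRoot.liftAlgHom f (Algebra.ofId K L) x (by
    rw [← hfx]; rfl)
  letI : Algebra (AdjoinRoot f) L := ψ.toRingHom.toAlgebra
  haveI : IsScalarTower K (AdjoinRoot f) L := IsScalarTower.of_algHom ψ
  have hroot : algebraMap (AdjoinRoot f) L (AdjoinRoot.root f) = x :=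
    AdjoinRoot.liftAlgHom_root f (Algebra.ofId K L) x _
  have key := descent K (AdjoinRoot f) L (AdjoinRoot.root f) ?_ t (by rw [hroot]; exact ht)
  · exact key
  · intro s hs
    rw [hroot] at hs
    obtain ⟨g, rfl⟩ := piB_surjective K L f s
    rw [mulA_piB K L f x hroot]
    have h1 : piB K L f ((X - C x) * g) = 0 := by
      rw [map_mul, map_sub, piB_X, piB_C]
      exact hs
    have h2 := piB_ker K L f hf0 (Polynomial.natDegree_pos_iff_degree_pos.mpr (Polynomial.degree_pos_of_irreducible hirr)) _ h1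
    -- `x` is a multiple root of `f`
    set fL := f.map (algebraMap K L) with hfL
    have hfL0 : fL ≠ 0 := (Polynomial.map_ne_zero_iff (algebraMap K L).injective).mpr hf0
    have hder : derivative f = 0 := by
      by_contra h
      exact hns ((Polynomial.separable_iff_derivative_ne_zero hirr).mpr h)
    have hroot1 : fL.IsRoot x := by
      rw [IsRoot.def, hfL, eval_map_algebraMap, hfx]
    have hroot2 : (derivative fL).IsRoot x := by
      rw [IsRoot.def, hfL, derivative_map, hder, Polynomial.map_zero, eval_zero]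
    have hmult : 1 < fL.rootMultiplicity x :=
      (Polynomial.one_lt_rootMultiplicity_iff_isRoot hfL0).mpr ⟨hroot1, hroot2⟩
    have hsq : (X - C x) ^ 2 ∣ fL := (Polynomial.le_rootMultiplicity_iff hfL0).mp hmult
    have h3 : (X - C x) ^ 2 ∣ (X - C x) * g := hsq.trans h2
    rw [pow_two] at h3
    have h4 : (X - C x) ∣ g := (mul_dvd_mul_iff_left (X_sub_C_ne_zero x)).mp h3
    exact (Polynomial.dvd_iff_isRoot.mp h4)

end Groth.Agent.Helper19.SepCompl
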